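import Cfsg.Agent.Lib.Subnormal.Nilpotent
import Cfsg.Agent.Lib.OddLinear.Main
import Cfsg.Agent.Lib.BGroups.Structure
import Mathlib.GroupTheory.Nilpotent

/-!
# Left-normed commutator values and the order condition on coprime values

`value_centralizes`: under the order condition a value centralises every subgroup of coprime order
that it normalises.
-/

set_option autoImplicit false

namespace Cfsg.Agent.CommValues

open Subgroup
open scoped commutatorElement

variable {G K : Type*} [Group G] [Group K]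

/-- The commutator `a b a⁻¹ b⁻¹`. -/
def cm (a b : G) : G := a * b * a⁻¹ * b⁻¹

theorem map_cm (f : G →* K) (a b : G) : f (cm a b) = cm (f a) (f b) := by simp [cm]

/-- `x` is a left-normed commutator with `k + 1` entries. -/
def Value (k : ℕ) (x : G) : Prop := ∃ a : G, ∃ l : List G, l.length = k ∧ x = l.foldl cm a

theorem value_iff (k : ℕ) (x : G) : Value k x ↔ ∃ f : Fin (k + 1) → G,
    x = ((List.ofFn f).tail).foldl (fun a b => a * b * a⁻¹ * b⁻¹) (f 0) := by
  constructor
  · rintro ⟨a, l, rfl, rfl⟩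
    exact ⟨Fin.cons a l.get, by simp [List.ofFn_get]; rfl⟩
  · rintro ⟨f, rfl⟩
    exact ⟨f 0, (List.ofFn f).tail, by simp, rfl⟩

theorem Value.map {k : ℕ} {x : G} (h : Value k x) (f : G →* K) : Value k (f x) := by
  obtain ⟨a, l, rfl, rfl⟩ := h
  refine ⟨f a, l.map f, by simp, ?_⟩
  induction l generalizing a with
  | nil => rfl
  | cons b t ih => simp only [List.map_cons, List.foldl_cons]; rw [ih, map_cm]

theorem Value.mem_lcs {k : ℕ} {x : G} (h : Value k x) :
    x ∈ (⊤ : Subgroup G).lowerCentralSeries k := by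
  obtain ⟨a, l, rfl, rfl⟩ := h
  suffices ∀ (l : List G) (a : G) (i : ℕ), a ∈ (⊤ : Subgroup G).lowerCentralSeries i →
      l.foldl cm a ∈ (⊤ : Subgroup G).lowerCentralSeries (i + l.length) by
    simpa using this l a 0 (mem_top a)
  intro l
  induction l with
  | nil => intro a i ha; simpa using ha
  | cons b t ih =>
    intro a i ha
    have h1 := ih (cm a b) (i + 1) (commutator_mem_commutator ha (mem_top b))
    rw [List.foldl_cons, List.length_cons]
    convert h1 using 2
    omega

theorem Value.snoc {k : ℕ} {a : G} (h : Value k a) (b : G) : Value (k + 1) (cm a b) := by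
  obtain ⟨c, l, rfl, rfl⟩ := h
  exact ⟨c, l ++ [b], by simp, by simp⟩

/-- A normal subgroup containing all values contains the term of the lower central series. -/
theorem lcs_le_of_values : ∀ (k : ℕ) (N : Subgroup G), N.Normal → (∀ x, Value k x → x ∈ N) →
    (⊤ : Subgroup G).lowerCentralSeries k ≤ N
  | 0, _, _, h => fun x _ => h x ⟨x, [], rfl, rfl⟩
  | k + 1, N, hN, h => by
    haveI := hN
    have h2 := lcs_le_of_values k ((center (G ⧸ N)).comap (QuotientGroup.mk' N)) inferInstance
      fun a ha => by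
        rw [mem_comap, mem_center_iff]
        intro c
        obtain ⟨b, rfl⟩ := QuotientGroup.mk'_surjective N c
        have h3 : QuotientGroup.mk' N (cm a b) = 1 :=
          (QuotientGroup.eq_one_iff _).2 (h _ (ha.snoc b))
        rw [map_cm, cm, mul_inv_eq_one, mul_inv_eq_iff_eq_mul] at h3
        exact h3.symm
    rw [Subgroup.lowerCentralSeries_succ, commutator_le]
    intro a ha b _
    rw [← QuotientGroup.eq_one_iff]
    show QuotientGroup.mk' N ⁅a, b⁆ = 1
    rw [map_commutatorElement, commutatorElement_eq_one_iff_mul_comm]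
    exact (mem_center_iff.1 (h2 ha) _).symm

/-- The iterate `[u, y, …, y]`. -/
def it (y u : G) : ℕ → G
  | 0 => u
  | n + 1 => cm (it y u n) y

theorem map_it (f : G →* K) (y u : G) : ∀ n, f (it y u n) = it (f y) (f u) n
  | 0 => rfl
  | n + 1 => by rw [it, map_cm, map_it f y u n]; rfl

theorem it_add (y u : G) (m : ℕ) : ∀ n, it y u (m + n) = it y (it y u m) n
  | 0 => rfl
  | n + 1 => by rw [← add_assoc, it, it_add y u m n]; rfl

theorem it_succ (y u : G) (n : ℕ) : it y u (n + 1) = it y (cm u y) n := by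
  rw [add_comm, it_add]; rfl

theorem it_one : ∀ (y : G) (n : ℕ), it y 1 n = 1
  | _, 0 => rfl
  | y, n + 1 => by rw [it, it_one y n]; simp [cm]

theorem value_it (y u : G) (k : ℕ) : Value k (it y u k) := by
  induction k with
  | zero => exact ⟨u, [], rfl, rfl⟩
  | succ n ih => exact ih.snoc y

theorem value_it_of_le (y u : G) {k n : ℕ} (h : k ≤ n) : Value k (it y u n) := by
  obtain ⟨d, rfl⟩ := Nat.exists_eq_add_of_le h
  rw [add_comm, it_add]
  exact value_it y _ k

theorem cm_mem {Q : Subgroup G} {y u : G} (hn : ∀ q ∈ Q, y * q * y⁻¹ ∈ Q) (hu : u ∈ Q) :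
    cm u y ∈ Q := by
  have := mul_mem hu (hn _ (inv_mem hu))
  simpa [cm, mul_assoc] using this

theorem it_mem {Q : Subgroup G} {y u : G} (hn : ∀ q ∈ Q, y * q * y⁻¹ ∈ Q) (hu : u ∈ Q) :
    ∀ n, it y u n ∈ Q
  | 0 => hu
  | n + 1 => cm_mem hn (it_mem hn hu n)

/-- Iterated commutators with a coprime automorphism do not die out. -/
theorem it_ne_one {Q : Subgroup G} {y u : G} (hn : ∀ q ∈ Q, y * q * y⁻¹ ∈ Q) (hu : u ∈ Q)
    (hcop : (Nat.card Q).Coprime (orderOf y)) (hne : u * y ≠ y * u) : ∀ n, it y u n ≠ 1 := by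
  have h1 : ∀ e ∈ Q, cm e y ≠ 1 → cm (cm e y) y ≠ 1 := by
    intro e he hne1 h2
    set c := cm e y with hc
    have hcy : Commute y c := by
      rw [cm, mul_inv_eq_one, mul_inv_eq_iff_eq_mul] at h2
      exact h2.symm
    have hstep : y * e * y⁻¹ = c⁻¹ * e := by rw [hc, cm]; group
    have hpow : ∀ n : ℕ, y ^ n * e * (y ^ n)⁻¹ = (c ^ n)⁻¹ * e := by
      intro n
      induction n with
      | zero => simp
      | succ m ih =>
        have hcm : y * (c ^ m)⁻¹ * y⁻¹ = (c ^ m)⁻¹ := by
          rw [((hcy.pow_right m).inv_right).eq, mul_inv_cancel_right]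
        calc y ^ (m + 1) * e * (y ^ (m + 1))⁻¹ = y * (y ^ m * e * (y ^ m)⁻¹) * y⁻¹ := by
              rw [pow_succ']; group
          _ = y * ((c ^ m)⁻¹ * e) * y⁻¹ := by rw [ih]
          _ = (y * (c ^ m)⁻¹ * y⁻¹) * (y * e * y⁻¹) := by group
          _ = (c ^ m)⁻¹ * (c⁻¹ * e) := by rw [hcm, hstep]
          _ = (c ^ (m + 1))⁻¹ * e := by rw [← mul_assoc, ← mul_inv_rev, pow_succ']
    have h3 := hpow (orderOf y)
    rw [pow_orderOf_eq_one, one_mul, inv_one, mul_one] at h3
    have h4 : c ^ orderOf y = 1 := by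
      have := congrArg (· * e⁻¹) h3
      simpa using this.symm
    have h5 : orderOf c ∣ Nat.card Q := by
      have hcQ : c ∈ Q := cm_mem hn he
      rw [← Subgroup.orderOf_mk c hcQ]
      exact orderOf_dvd_natCard _
    exact hne1 (orderOf_eq_one_iff.1 (Nat.eq_one_of_dvd_coprimes hcop h5
      (orderOf_dvd_of_pow_eq_one h4)))
  intro n
  induction n with
  | zero => exact fun h => hne (by rw [show u = 1 from h, one_mul, mul_one])
  | succ m ih =>
    cases m with
    | zero =>
      intro h
      refine hne ?_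
      simp only [it] at h
      rwa [cm, mul_inv_eq_one, mul_inv_eq_iff_eq_mul] at h
    | succ j => exact h1 _ (it_mem hn hu j) ih

/-- The order condition on coprime values. -/
def Crit (k : ℕ) (G : Type*) [Group G] : Prop :=
  ∀ x y : G, Value k x → Value k y → (orderOf x).Coprime (orderOf y) →
    (∀ r : ℕ, r.Prime → r ∣ orderOf x * orderOf y → r ∣ orderOf (x * y)) ∨
      orderOf x * orderOf y ≤ orderOf (x * y)

theorem Crit.comap {k : ℕ} (h : Crit k K) (f : G →* K) (hf : Function.Injective f) : Crit k G := by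
  intro x y hx hy hc
  have h1 := h (f x) (f y) (hx.map f) (hy.map f)
  rw [← map_mul, orderOf_injective f hf, orderOf_injective f hf, orderOf_injective f hf] at h1
  exact h1 hc

theorem Crit.it_eq_one [Finite G] {k : ℕ} (h : Crit k G) {y u : G} (hy : Value k y)
    (hcop : (orderOf (it y u (k + 1))).Coprime (orderOf y)) : it y u (k + 1) = 1 := by
  by_contra hne
  set w := it y u k with hw
  set x := it y u (k + 1) with hx
  have hxy : x * y = w * y * w⁻¹ := by
    rw [hx, it, ← hw, cm]; group
  have ho : orderOf (x * y) = orderOf y := by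
    rw [hxy, ← MulAut.conj_apply]; exact MulEquiv.orderOf_eq _ _
  have hx1 : orderOf x ≠ 1 := fun e => hne (orderOf_eq_one_iff.1 e)
  rcases h x y (value_it_of_le y u (Nat.le_succ k)) hy hcop with h1 | h1
  · obtain ⟨r, hr, hrx⟩ := Nat.exists_prime_and_dvd hx1
    have h2 := h1 r hr (hrx.mul_right _)
    rw [ho] at h2
    exact hr.ne_one (Nat.eq_one_of_dvd_coprimes hcop hrx h2)
  · rw [ho] at h1
    have h2 : 2 ≤ orderOf x := by have := orderOf_pos x; omega
    have h3 := Nat.mul_le_mul_right (orderOf y) h2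
    have := orderOf_pos y
    omega

/-- A value centralises the subgroups of coprime order it normalises. -/
theorem value_centralizes [Finite G] {k : ℕ} (h : Crit k G) {y : G} (hy : Value k y)
    {Q : Subgroup G} (hn : ∀ q ∈ Q, y * q * y⁻¹ ∈ Q) (hcop : (Nat.card Q).Coprime (orderOf y))
    {q : G} (hq : q ∈ Q) : q * y = y * q := by
  by_contra hne
  refine it_ne_one hn hq hcop hne (k + 1) (h.it_eq_one hy (hcop.coprime_dvd_left ?_))
  rw [← Subgroup.orderOf_mk _ (it_mem hn hq (k + 1))]
  exact orderOf_dvd_natCard _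

/-- Necessity. -/
theorem crit_of_isNilpotent [Finite G] (k : ℕ)
    [Group.IsNilpotent ((⊤ : Subgroup G).lowerCentralSeries k)] : Crit k G := by
  intro x y hx hy hc
  refine Or.inr (le_of_eq ?_)
  let x' : (⊤ : Subgroup G).lowerCentralSeries k := ⟨x, hx.mem_lcs⟩
  let y' : (⊤ : Subgroup G).lowerCentralSeries k := ⟨y, hy.mem_lcs⟩
  have hcomm : Commute x' y' := by
    exact OddLinear.commute_of_coprime (by
      rwa [Subgroup.orderOf_mk, Subgroup.orderOf_mk])
  exact ((hcomm.map (Subgroup.subtype _)).orderOf_mul_eq_mul_orderOf_of_coprime hc).symm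

end Cfsg.Agent.CommValues
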