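import Cfsg.Agent.Lib.CommValues.Solvable
import Cfsg.Agent.Lib.FTConsumers.Hyp
import Cfsg.Agent.Lib.ZStar.Main
import Cfsg.Agent.Lib.ZStar.Consumers
import Cfsg.Agent.Lib.Transfer.Alperin
import Cfsg.Agent.Lib.Involution.BaerSuzuki
import Cfsg.Agent.Lib.PrimeParts.OddInverted

/-!
# The order condition forces solvability, given the odd order theorem

`exists_moved`: in a non-cyclic simple group some elementary abelian 2-subgroup is moved by an odd
element of its normalizer.  `isSolvable`: this contradicts the order condition.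
-/

set_option autoImplicit false
set_option linter.style.haveILetI false

namespace Cfsg.Agent.CommValues

open Subgroup Cfsg

universe u

variable {G : Type u} [Group G] [Finite G]

/-- A solvable lower central term makes the group solvable. -/
theorem solvable_of_lcs {k : ℕ} (h : Group.IsSolvable ((⊤ : Subgroup G).lowerCentralSeries k)) :
    Group.IsSolvable G := by
  set N := (⊤ : Subgroup G).lowerCentralSeries k with hN
  haveI := h
  haveI : N.Normal := inferInstance
  haveI : Group.IsNilpotent (G ⧸ N) := by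
    rw [_root_.nilpotent_iff_lowerCentralSeries]
    refine ⟨k, ?_⟩
    rw [← Subgroup.map_top_of_surjective _ (QuotientGroup.mk'_surjective N), ← map_lowerCentralSeries,
      Subgroup.map_eq_bot_iff, QuotientGroup.ker_mk']
  exact Group.isSolvable_of_ker_le_range N.subtype (QuotientGroup.mk' N)
    (by rw [QuotientGroup.ker_mk', range_subtype])

/-- In a non-cyclic simple group an odd element moves an elementary abelian 2-group it normalises. -/
theorem exists_moved [IsSimpleGroup G] (hFT : FTConsumers.OddOrder.{u})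
    (hns : ¬ Group.IsSolvable G) : ∃ (E : Subgroup G) (g e : G), (∀ a ∈ E, a * a = 1) ∧
      (∀ a ∈ E, ∀ b ∈ E, a * b = b * a) ∧ Odd (orderOf g) ∧
      g ∈ normalizer (E : Set G) ∧ e ∈ E ∧ e * g ≠ g * e := by
  classical
  by_contra hcon
  push Not at hcon
  haveI : Fact (Nat.Prime 2) := ⟨Nat.prime_two⟩
  have hodd : ¬ Odd (Nat.card G) := fun h => hns (hFT G h)
  have heven : 2 ∣ Nat.card G := even_iff_two_dvd.1 (Nat.not_odd_iff_even.1 hodd)
  obtain ⟨S⟩ : Nonempty (Sylow 2 G) := inferInstance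
  haveI : Nontrivial (S : Subgroup G) := by
    rw [← Finite.one_lt_card_iff_nontrivial]
    obtain ⟨t, ht⟩ := exists_prime_orderOf_dvd_card' 2 heven
    obtain ⟨Q, hQ⟩ := (IsPGroup.of_card (n := 1) (show Nat.card (zpowers t) = 2 ^ 1 by
      rw [Nat.card_zpowers, ht, pow_one])).exists_le_sylow
    rw [S.card_eq_multiplicity, ← Q.card_eq_multiplicity]
    exact lt_of_lt_of_le (by rw [Nat.card_zpowers, ht]; norm_num) (card_le_of_le hQ)
  haveI : Nontrivial (center (S : Subgroup G)) := S.2.center_nontrivial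
  obtain ⟨zc, hzc⟩ : ∃ z : center (S : Subgroup G), orderOf z = 2 := by
    obtain ⟨n, hn, hc⟩ := (IsPGroup.nontrivial_iff_card (S.2.to_subgroup _)).1
      (inferInstance : Nontrivial (center (S : Subgroup G)))
    exact exists_prime_orderOf_dvd_card' 2 (hc ▸ dvd_pow_self 2 hn.ne')
  set z : G := ((zc : (S : Subgroup G)) : G) with hz
  have hzo : orderOf z = 2 := by rw [hz, Subgroup.orderOf_coe, Subgroup.orderOf_coe, hzc]
  have hzS : z ∈ (S : Subgroup G) := (zc : (S : Subgroup G)).2
  have hzc' : ∀ s ∈ (S : Subgroup G), s * z = z * s := fun s hs =>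
    congrArg Subtype.val (mem_center_iff.1 zc.2 ⟨s, hs⟩)
  have hstep : ∀ D : Subgroup G, Transfer.IsTame S D → z ∈ D →
      ∀ x ∈ normalizer (D : Set G), x⁻¹ * z * x = z := by
    intro D hD hzD x hx
    set K := (centralizer ({z} : Set G)).subgroupOf (normalizer (D : Set G)) with hK
    suffices hKtop : K = ⊤ by
      have := mem_centralizer_singleton_iff.1 (show (x : G) ∈ centralizer ({z} : Set G) from
        subgroupOf_eq_top.1 hKtop hx)
      rw [mul_assoc, ← this, inv_mul_cancel_left]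
    have hoddmem : ∀ g : normalizer (D : Set G), Odd (orderOf g) → g ∈ K := by
      intro g hg
      let E : Subgroup G :=
        { carrier := {a | a ∈ D ∧ a * a = 1 ∧ ∀ d ∈ D, a * d = d * a}
          one_mem' := ⟨D.one_mem, one_mul 1, fun d _ => by rw [one_mul, mul_one]⟩
          mul_mem' := fun {a b} ha hb => ⟨D.mul_mem ha.1 hb.1,
            by rw [(show Commute b a from hb.2.2 a ha.1).mul_mul_mul_comm, ha.2.1, hb.2.1, one_mul],
            fun d hd => (Commute.mul_left (ha.2.2 d hd : Commute a d) (hb.2.2 d hd : Commute b d)).eq⟩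
          inv_mem' := fun {a} ha => by rw [inv_eq_of_mul_eq_one_right ha.2.1]; exact ha }
      have hgE : ∀ h ∈ normalizer (D : Set G), ∀ a ∈ E, h * a * h⁻¹ ∈ E := by
        intro h hh a ha
        refine ⟨(mem_normalizer_iff.1 hh a).1 ha.1, ?_, fun d hd => ?_⟩
        · rw [show h * a * h⁻¹ * (h * a * h⁻¹) = h * (a * a) * h⁻¹ by group, ha.2.1, mul_one,
            mul_inv_cancel]
        · have h1 := ha.2.2 _ ((mem_normalizer_iff.1 ((normalizer (D : Set G)).inv_mem hh) d).1 hd)
          rw [inv_inv] at h1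
          calc h * a * h⁻¹ * d = h * (a * (h⁻¹ * d * h)) * h⁻¹ := by group
            _ = h * ((h⁻¹ * d * h) * a) * h⁻¹ := by rw [h1]
            _ = d * (h * a * h⁻¹) := by group
      have hgn : (g : G) ∈ normalizer (E : Set G) := mem_normalizer_iff.2 fun a => ⟨hgE _ g.2 a,
        fun ha => by
          have := hgE _ (inv_mem g.2) _ ha
          rwa [inv_inv, show (g : G)⁻¹ * ((g : G) * a * (g : G)⁻¹) * (g : G) = a by group] at this⟩
      have hzE : z ∈ E := ⟨hzD, by rw [← pow_two, ← hzo, pow_orderOf_eq_one],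
        fun d hd => (hzc' d (hD.le hd)).symm⟩
      exact mem_subgroupOf.2 (mem_centralizer_singleton_iff.2
        (hcon E g z (fun a ha => ha.2.1) (fun a ha b hb => ha.2.2 b hb.1)
          (by rwa [Subgroup.orderOf_coe]) hgn hzE).symm)
    have h2 : ¬ 2 ∣ K.index := by
      obtain ⟨Q, -, hS, -⟩ := hD
      intro hd
      refine hS (dvd_trans hd ?_)
      refine index_dvd_of_le fun s hs => ?_
      exact mem_subgroupOf.2 (mem_centralizer_singleton_iff.2 (hzc' s (mem_subgroupOf.1 hs).1))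
    have hq : IsPGroup 2 (normalizer (D : Set G) ⧸ K.normalCore) := by
      intro c
      obtain ⟨g, rfl⟩ := QuotientGroup.mk'_surjective _ c
      obtain ⟨a, m, hm, hd⟩ := Nat.exists_eq_pow_mul_and_not_dvd (orderOf_pos g).ne' 2 (by norm_num)
      refine ⟨a, ?_⟩
      rw [← map_pow]
      refine (QuotientGroup.eq_one_iff _).2 fun h => hoddmem _ ?_
      rw [← MulAut.conj_apply, MulEquiv.orderOf_eq, orderOf_pow, hd,
        Nat.gcd_eq_right (dvd_mul_right _ _), Nat.mul_div_cancel_left m (by positivity)]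
      exact Nat.odd_iff.2 (Nat.two_dvd_ne_zero.1 hm)
    obtain ⟨n, hn⟩ := IsPGroup.iff_card.1 hq
    have hdvd : K.index ∣ 2 ^ n := by
      rw [← hn, ← index_eq_card]
      exact index_dvd_of_le K.normalCore_le
    obtain ⟨i, -, hi⟩ := (Nat.dvd_prime_pow Nat.prime_two).1 hdvd
    rcases Nat.eq_zero_or_pos i with rfl | hi0
    · exact index_eq_one.1 (by rw [hi, pow_zero])
    · exact absurd (hi ▸ dvd_pow_self 2 hi0.ne') h2
  have hfix : ∀ (A : Set G) (g : G), Transfer.FusionChain (Transfer.IsTame S) A g →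
      A = {z} → g⁻¹ * z * g = z := by
    intro A g h
    induction h with
    | one A => intro _; simp
    | @step A D x h hD hA hx _ ih =>
      intro hAz
      subst hAz
      have hx' := hstep D hD (hA rfl) x hx
      have := ih (by rw [Set.image_singleton, hx'])
      calc (x * h)⁻¹ * z * (x * h) = h⁻¹ * (x⁻¹ * z * x) * h := by group
        _ = z := by rw [hx', this]
  have hiso : IsIsolatedInvolution z := ZStar.isolated_of_sylow (P := S) hzo hzS fun g hg => by
    have h1 := hfix {z} g⁻¹ (Transfer.alperin S {z} g⁻¹ (by intro a ha; rw [Set.mem_singleton_iff.1 ha]; exact hzS)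
      (by intro a ha; rw [Set.mem_singleton_iff.1 ha, inv_inv]; exact hg)) rfl
    rwa [inv_inv] at h1
  have hzS' := ZStar.inZStar hiso
  have hO : oddCore G = ⊥ := by
    rcases (inferInstance : (oddCore G).Normal).eq_bot_or_eq_top with h | h
    · exact h
    · exfalso
      have := PCore.odd_card_oddCore (G := G)
      rw [h, card_top] at this
      exact hodd this
  have hc := ZStar.mem_center_of_oddCore_eq_bot hzS' hO
  rcases (inferInstance : (center G).Normal).eq_bot_or_eq_top with h | h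
  · rw [h, mem_bot] at hc; simp [hc] at hzo
  · exact hns (Group.isSolvable_of_comm fun a b => mem_center_iff.1 (h.symm ▸ mem_top b) a)

/-- The prime power elements of a nilpotent term form subgroups normalised by the whole group. -/
theorem exists_pTerm {k p : ℕ} [Fact p.Prime]
    [Group.IsNilpotent ((⊤ : Subgroup G).lowerCentralSeries k)] :
    ∃ T : Subgroup G, IsPGroup p T ∧ T.Normal ∧
      ∀ t ∈ (⊤ : Subgroup G).lowerCentralSeries k, (∃ j, orderOf t = p ^ j) → t ∈ T := by
  refine ⟨pCore p G, PCore.isPGroup_pCore, Components.pCore_normal' p, ?_⟩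
  rintro t ht ⟨j, hj⟩
  exact Subnormal.mem_pCore_of_mem_fittingSubgroup (k := j)
    (Components.le_fittingSubgroup inferInstance ht) (by rw [← hj, pow_orderOf_eq_one])

/-- Every proper subgroup having a nilpotent term and the order condition give solvability. -/
theorem false_of_minimal {k : ℕ} (hFT : FTConsumers.OddOrder.{u}) (h : Crit k G)
    (hns : ¬ Group.IsSolvable G)
    (hmin : ∀ H : Subgroup G, H ≠ ⊤ →
      Group.IsNilpotent ((⊤ : Subgroup H).lowerCentralSeries k)) : False := by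
  classical
  haveI : Fact (Nat.Prime 2) := ⟨Nat.prime_two⟩
  have hsol : ∀ H : Subgroup G, H ≠ ⊤ → Group.IsSolvable H := fun H hH => by
    haveI := hmin H hH
    exact solvable_of_lcs (k := k) inferInstance
  -- a maximal proper normal subgroup
  haveI : Nontrivial G := by
    by_contra hnt
    rw [not_nontrivial_iff_subsingleton] at hnt
    exact hns (Group.isSolvable_of_comm fun a b => Subsingleton.elim _ _)
  obtain ⟨R, ⟨hRn, hRne⟩, hRmax⟩ :=
    (Set.toFinite {N : Subgroup G | N.Normal ∧ N ≠ ⊤}).exists_maximal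
      ⟨⊥, inferInstance, bot_ne_top⟩
  haveI := hRn
  haveI := hsol R hRne
  set π := QuotientGroup.mk' R with hπ
  have hπs : Function.Surjective π := QuotientGroup.mk'_surjective R
  haveI : Nontrivial (G ⧸ R) := by
    rw [← Finite.one_lt_card_iff_nontrivial, ← Subgroup.index_eq_card]
    exact one_lt_index_of_ne_top hRne
  haveI hsimple : IsSimpleGroup (G ⧸ R) := ⟨fun N hN => by
    by_cases hN1 : N.comap π = ⊤
    · right
      rw [← map_comap_eq_self_of_surjective hπs N, hN1, map_top_of_surjective _ hπs]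
    · left
      haveI := hN
      have hle : N.comap π ≤ R := hRmax ⟨hN.comap π, hN1⟩ fun r hr => by
        rw [mem_comap, show π r = 1 from (QuotientGroup.eq_one_iff r).2 hr]; exact N.one_mem
      refine eq_bot_iff.2 fun c hc => ?_
      obtain ⟨g, rfl⟩ := hπs c
      exact (QuotientGroup.eq_one_iff g).2 (hle hc)⟩
  have hns' : ¬ Group.IsSolvable (G ⧸ R) := fun hq => hns
    (Group.isSolvable_of_ker_le_range R.subtype π (by rw [hπ, QuotientGroup.ker_mk', range_subtype]))
  have hproper : ∀ (A K : Subgroup (G ⧸ R)), A ≠ ⊥ → (∀ a ∈ A, ∀ b ∈ A, a * b = b * a) →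
      A ≤ K → K ≤ normalizer (A : Set (G ⧸ R)) → K.comap π ≠ ⊤ := by
    intro A K hA hcomm _ hK htop
    have hK' : K = ⊤ := by
      rw [← map_comap_eq_self_of_surjective hπs K, htop, map_top_of_surjective _ hπs]
    have hAn : A.Normal := normalizer_eq_top_iff.1 (top_le_iff.1 (hK' ▸ hK))
    rcases hAn.eq_bot_or_eq_top with h1 | h1
    · exact hA h1
    · exact hns' (Group.isSolvable_of_comm fun a b => hcomm a (h1 ▸ mem_top a) b (h1 ▸ mem_top b))
  obtain ⟨x, hx, ⟨jx, hjx⟩, hxo⟩ : ∃ x : G, Value k x ∧ (∃ j, orderOf x = 2 ^ j) ∧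
      orderOf (π x) = 2 := by
    obtain ⟨E, g, e, hE2, hEc, hgodd, hgn, he, hne⟩ := exists_moved hFT hns'
    have he1 : e ≠ 1 := fun h => hne (by rw [h, one_mul, mul_one])
    set K := E ⊔ zpowers g with hK
    have hE0 : E ≠ ⊥ := fun h => he1 (by rw [h, mem_bot] at he; exact he)
    have htop := hproper E K hE0 hEc le_sup_left (sup_le le_normalizer (zpowers_le.2 hgn))
    set H := K.comap π with hH
    haveI := hmin H htop
    let ψ : H →* G ⧸ R := π.comp H.subtype
    obtain ⟨g0, hg0⟩ := hπs g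
    obtain ⟨e0, he0⟩ := hπs e
    have hg0H : g0 ∈ H := show π g0 ∈ K by rw [hg0]; exact mem_sup_right (mem_zpowers g)
    have he0H : e0 ∈ H := show π e0 ∈ K by rw [he0]; exact mem_sup_left he
    obtain ⟨g1, hg1, hg1o⟩ : ∃ g1 : H, ψ g1 = g ∧ Odd (orderOf g1) := by
      obtain ⟨a, m, hm, hd⟩ := Nat.exists_eq_pow_mul_and_not_dvd
        (orderOf_pos (⟨g0, hg0H⟩ : H)).ne' 2 (by norm_num)
      obtain ⟨c, hc⟩ := exists_pow_eq_self_of_coprime (x := g) (n := 2 ^ a)
        ((Nat.coprime_two_left.2 hgodd).pow_left a)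
      refine ⟨((⟨g0, hg0H⟩ : H) ^ 2 ^ a) ^ c, ?_, ?_⟩
      · rw [map_pow, map_pow]; show (π g0 ^ 2 ^ a) ^ c = g; rw [hg0, hc]
      · refine Odd.of_dvd_nat (Nat.odd_iff.2 (Nat.two_dvd_ne_zero.1 hm)) (orderOf_dvd_of_pow_eq_one ?_)
        rw [← pow_mul, ← pow_mul, ← orderOf_dvd_iff_pow_eq_one, hd]
        exact ⟨c, by ring⟩
    have hcopE : (Nat.card E).Coprime (orderOf g) := by
      obtain ⟨n, hn⟩ := IsPGroup.iff_card.1 (show IsPGroup 2 E from fun a => ⟨1, Subtype.ext (by
        rw [pow_one, pow_two]; exact hE2 a a.2)⟩)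
      rw [hn]
      exact (Nat.coprime_two_left.2 hgodd).pow_left n
    have hgE : ∀ q ∈ E, g * q * g⁻¹ ∈ E := fun q hq => (mem_normalizer_iff.1 hgn q).1 hq
    set e1 : H := ⟨e0, he0H⟩ with he1'
    have hψe : ψ e1 = e := he0
    set Γ := (⊤ : Subgroup H).lowerCentralSeries k with hΓ
    have hwΓ : it g e k ∈ (ψ.comp Γ.subtype).range :=
      ⟨⟨it g1 e1 k, (value_it g1 e1 k).mem_lcs⟩, by
        show ψ (it g1 e1 k) = _
        rw [map_it, hg1, hψe]⟩
    obtain ⟨j0, hj0⟩ := IsPGroup.iff_orderOf.1 (show IsPGroup 2 E from fun a => ⟨1, Subtype.ext (by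
        rw [pow_one, pow_two]; exact hE2 a a.2)⟩) ⟨_, it_mem hgE he k⟩
    rw [Subgroup.orderOf_mk] at hj0
    obtain ⟨⟨w, hwG⟩, l, hwe, hwo⟩ := PrimeParts.exists_primePow_lift
      (ψ.comp Γ.subtype).rangeRestrict (MonoidHom.rangeRestrict_surjective _)
      (y := ⟨_, hwΓ⟩) Nat.prime_two (by rw [Subgroup.orderOf_mk]; exact hj0)
    rw [Subgroup.orderOf_mk] at hwo
    have hwe' : ψ w = it g e k := congrArg Subtype.val hwe
    obtain ⟨T, hT2, hTn, hTmem⟩ := exists_pTerm (p := 2) (G := H) (k := k)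
    have hwT : w ∈ T := hTmem w hwG ⟨l, hwo⟩
    have hxT : it g1 w k ∈ T := it_mem (fun q hq => hTn.conj_mem q hq g1) hwT k
    refine ⟨H.subtype (it g1 w k), (value_it g1 w k).map _, ?_, ?_⟩
    · obtain ⟨j, hj⟩ := IsPGroup.iff_orderOf.1 hT2 ⟨_, hxT⟩
      rw [Subgroup.orderOf_mk] at hj
      exact ⟨j, by rw [coe_subtype, Subgroup.orderOf_coe]; exact hj⟩
    · have h1 : π (H.subtype (it g1 w k)) = it g e (k + k) := by
        show ψ (it g1 w k) = _
        rw [map_it, hg1, hwe', ← it_add]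
      rw [h1]
      refine orderOf_eq_prime ?_ (it_ne_one hgE he hcopE hne _)
      rw [pow_two]; exact hE2 _ (it_mem hgE he _)
  set xb := π x with hxb
  have hxb2 : xb ^ 2 = 1 := by rw [← hxo, pow_orderOf_eq_one]
  obtain ⟨y, r, hr, hr2, hyr, hinv⟩ : ∃ (y : G ⧸ R) (r : ℕ), r.Prime ∧ r ≠ 2 ∧ orderOf y = r ∧
      xb * y * xb⁻¹ = y⁻¹ := by
    by_contra hcon
    push Not at hcon
    have hN : IsPGroup 2 (normalClosure ({xb} : Set (G ⧸ R))) := by
      refine Involution.baer_suzuki xb fun g => ?_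
      have hs : orderOf (g * xb * g⁻¹) = 2 := by
        rw [← MulAut.conj_apply]; exact (MulEquiv.orderOf_eq _ xb).trans hxo
      set s := g * xb * g⁻¹
      obtain ⟨a, m, hm, hd⟩ := Nat.exists_eq_pow_mul_and_not_dvd (orderOf_pos (xb * s)).ne' 2 (by norm_num)
      refine Involution.isPGroup_closure_pair (a := a) (Involution.sq_of_orderOf_two hxo)
        (Involution.sq_of_orderOf_two hs) ?_
      have hm1 : m = 1 := by
        by_contra hm1
        obtain ⟨r, hr, hrm⟩ := Nat.exists_prime_and_dvd hm1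
        obtain ⟨m', hm'⟩ := hrm
        have hm0 : 0 < m := Nat.pos_of_ne_zero (by rintro rfl; simp at hm)
        have hm'0 : 0 < m' := Nat.pos_of_ne_zero (by rintro rfl; simp at hm'; omega)
        refine hcon ((xb * s) ^ (2 ^ a * m')) r hr (fun e => hm ⟨m', by rw [hm', e]⟩) ?_ ?_
        · rw [orderOf_pow, hd, hm', show 2 ^ a * (r * m') = r * (2 ^ a * m') by ring,
            Nat.gcd_eq_right (dvd_mul_left _ _), Nat.mul_div_cancel _ (by positivity)]
        · have h1 := Involution.invol_conj_zpow (Involution.invol_conj_mul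
            (Involution.sq_of_orderOf_two hxo) (Involution.sq_of_orderOf_two hs))
            ((2 ^ a * m' : ℕ) : ℤ)
          rwa [zpow_neg, zpow_natCast] at h1
      rw [← orderOf_dvd_iff_pow_eq_one, hd, hm1, mul_one]
    have htop : normalClosure ({xb} : Set (G ⧸ R)) = ⊤ := by
      refine (normalClosure_normal.eq_bot_or_eq_top).resolve_left fun h => ?_
      have := subset_normalClosure (s := ({xb} : Set (G ⧸ R))) rfl
      rw [h] at this
      rw [mem_bot.1 this, orderOf_one] at hxo
      omega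
    rw [htop] at hN
    haveI := (PCore.isPGroup_top_iff.1 hN).isNilpotent
    exact hns' inferInstance
  set K := zpowers y ⊔ zpowers xb with hK
  have hy1 : y ≠ 1 := fun h => by rw [h, orderOf_one] at hyr; exact hr.ne_one hyr.symm
  have hxn : xb ∈ normalizer ((zpowers y : Subgroup (G ⧸ R)) : Set (G ⧸ R)) := by
    refine Coprime.mem_normalizer_of_conj_smul_eq ?_
    show Subgroup.map (MulAut.conj xb).toMonoidHom _ = _
    rw [MonoidHom.map_zpowers]
    show zpowers (xb * y * xb⁻¹) = _
    rw [hinv, zpowers_inv]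
  have htop := hproper (zpowers y) K (zpowers_ne_bot.2 hy1)
    (fun a ha b hb => by
      obtain ⟨i, rfl⟩ := ha; obtain ⟨j, rfl⟩ := hb; exact (Commute.zpow_zpow (Commute.refl y) i j).eq)
    le_sup_left (sup_le le_normalizer (zpowers_le.2 hxn))
  set H := K.comap π with hH
  haveI := hmin H htop
  haveI := Fact.mk hr
  let ψ : H →* G ⧸ R := π.comp H.subtype
  have hxH : x ∈ H := show π x ∈ K from mem_sup_right (mem_zpowers _)
  obtain ⟨y0, hy0⟩ := hπs y
  have hy0H : y0 ∈ H := show π y0 ∈ K by rw [hy0]; exact mem_sup_left (mem_zpowers y)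
  set Γ := (⊤ : Subgroup H).lowerCentralSeries k with hΓ
  have hit : ∀ n, it xb y n = y ^ 2 ^ n := by
    intro n
    induction n with
    | zero => rw [pow_zero, pow_one]; rfl
    | succ m ih =>
      rw [it, ih, cm, mul_assoc (y ^ 2 ^ m), mul_assoc (y ^ 2 ^ m), ← inv_pow]
      rw [← conj_pow, show xb * y⁻¹ * xb⁻¹ = y by
        rw [show xb * y⁻¹ * xb⁻¹ = (xb * y * xb⁻¹)⁻¹ by group, hinv, inv_inv]]
      rw [← pow_add]; congr 1; ring
  have hvΓ : y ^ 2 ^ k ∈ (ψ.comp Γ.subtype).range :=
    ⟨⟨it ⟨x, hxH⟩ ⟨y0, hy0H⟩ k, (value_it _ _ k).mem_lcs⟩, by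
      show ψ (it _ _ k) = _
      rw [map_it]; show it (π x) (π y0) k = _
      rw [hy0, hit]⟩
  have hyko : orderOf (y ^ 2 ^ k) = r := by
    rw [(show Nat.Coprime (orderOf y) (2 ^ k) by
      rw [hyr]; exact ((Nat.coprime_primes hr Nat.prime_two).2 hr2).pow_right k).orderOf_pow, hyr]
  obtain ⟨⟨v, hvG⟩, l, hve, hvo⟩ := PrimeParts.exists_primePow_lift
    (ψ.comp Γ.subtype).rangeRestrict (MonoidHom.rangeRestrict_surjective _)
    (y := ⟨_, hvΓ⟩) (b := 1) hr (by rw [Subgroup.orderOf_mk, pow_one]; exact hyko)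
  rw [Subgroup.orderOf_mk] at hvo
  obtain ⟨T, hTr, hTn, hTmem⟩ := exists_pTerm (p := r) (G := H) (k := k)
  have hvT : (v : G) ∈ T.map H.subtype := ⟨v, hTmem v hvG ⟨l, hvo⟩, rfl⟩
  obtain ⟨nT, hnT⟩ := IsPGroup.iff_card.1 (hTr.map H.subtype)
  have hc := value_centralizes h hx (Q := T.map H.subtype)
    (by rintro _ ⟨t, ht, rfl⟩; exact ⟨_, hTn.conj_mem t ht ⟨x, hxH⟩, rfl⟩)
    (by rw [hnT, hjx]; exact Nat.Coprime.pow _ _ ((Nat.coprime_primes hr Nat.prime_two).2 hr2)) hvT
  have hvb : π (v : G) = y ^ 2 ^ k := congrArg Subtype.val hve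
  have h1 := congrArg π hc
  rw [map_mul, map_mul, hvb, ← hxb] at h1
  have h2 : xb * y ^ 2 ^ k * xb⁻¹ = (y ^ 2 ^ k)⁻¹ := by rw [← conj_pow, hinv, inv_pow]
  rw [← h1, mul_inv_cancel_right] at h2
  have h3 : orderOf (y ^ 2 ^ k) ∣ 2 := orderOf_dvd_of_pow_eq_one (by
    rw [pow_two]; exact eq_inv_iff_mul_eq_one.1 h2)
  rw [hyko] at h3
  exact hr2 ((Nat.prime_dvd_prime_iff_eq hr Nat.prime_two).1 h3)

/-- **The criterion**, given the odd order theorem. -/
theorem isNilpotent_lcs_iff (hFT : FTConsumers.OddOrder.{u}) (k : ℕ) :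
    ∀ (G : Type u) [Group G] [Finite G],
      Group.IsNilpotent ((⊤ : Subgroup G).lowerCentralSeries k) ↔ Crit k G := by
  intro G _ _
  refine ⟨fun _ => crit_of_isNilpotent k, ?_⟩
  induction hn : Nat.card G using Nat.strong_induction_on generalizing G with
  | _ n ih =>
    intro h
    by_contra hne
    have hns : ¬ Group.IsSolvable G := fun hs => hne (@isNilpotent_lcs_of_solvable G _ _ k hs h)
    refine false_of_minimal hFT h hns fun H hH => ?_
    refine ih (Nat.card H) ?_ H rfl (h.comap H.subtype H.subtype_injective)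
    rw [← hn]
    exact lt_of_le_of_ne (card_le_card_group H) fun e => hH (eq_top_of_card_eq H e)

end Cfsg.Agent.CommValues
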