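import Cfsg.Agent.Lib.CommValues.Basic
import Cfsg.Agent.Lib.PrimeParts.Basic
import Cfsg.Agent.Lib.PCore.Basic

/-!
# The order condition in solvable groups puts the lower central term into the Fitting subgroup
-/

set_option autoImplicit false
set_option linter.style.haveILetI false

namespace Cfsg.Agent.CommValues

open Subgroup

variable {G : Type*} [Group G] [Finite G]

/-- An element of a normal subgroup which is a `q`-group modulo `F(G)`, centralising every `O_r(G)`,
`r ≠ q`, lies in `F(G)`. -/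
theorem mem_fitting_of_centralizes {q : ℕ} (hq : q.Prime) {N : Subgroup G} [N.Normal]
    (hN : ∀ n ∈ N, ∃ j, n ^ q ^ j ∈ fittingSubgroup G) {x : G} (hxN : x ∈ N)
    (hx : ∀ r : ℕ, r.Prime → r ≠ q → ∀ v ∈ pCore r G, x * v = v * x) :
    x ∈ fittingSubgroup G := by
  set A : Subgroup G := ⨆ r : {r : ℕ // r.Prime ∧ r ≠ q}, pCore (r : ℕ) G with hA
  haveI : A.Normal := by
    refine ⟨fun a ha g => ?_⟩
    have hle : A.map (MulAut.conj g).toMonoidHom ≤ A := by
      rw [hA, Subgroup.map_iSup]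
      refine iSup_le fun r => le_trans ?_ (le_iSup (fun r : {r : ℕ // r.Prime ∧ r ≠ q} =>
        pCore (r : ℕ) G) r)
      rintro _ ⟨b, hb, rfl⟩
      exact (Components.pCore_normal' (r : ℕ)).conj_mem b hb g
    exact hle ⟨a, ha, rfl⟩
  set W : Subgroup G := N ⊓ centralizer (A : Set G) with hW
  have hxW : x ∈ W := by
    refine ⟨hxN, mem_centralizer_iff.2 fun v hv => ?_⟩
    have hle : A ≤ centralizer ({x} : Set G) := iSup_le fun r v hv =>
      mem_centralizer_singleton_iff.2 (hx r r.2.1 r.2.2 v hv).symm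
    exact mem_centralizer_singleton_iff.1 (hle hv)
  haveI hqf : Fact q.Prime := ⟨hq⟩
  haveI : Group.IsNilpotent W := by
    refine Group.of_quotient_center_nilpotent (IsPGroup.isNilpotent (p := q) ?_)
    intro c
    obtain ⟨w, rfl⟩ := QuotientGroup.mk'_surjective _ c
    obtain ⟨j, hj⟩ := hN (w : G) w.2.1
    set v := (w : G) ^ q ^ j with hv
    obtain ⟨a, m, hm, hd⟩ := Nat.exists_eq_pow_mul_and_not_dvd (orderOf_pos v).ne' q hq.ne_one
    set v' := v ^ q ^ a with hv'
    have ho : orderOf v' = m := by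
      rw [hv', orderOf_pow, hd, Nat.gcd_eq_right (dvd_mul_right _ _),
        Nat.mul_div_cancel_left m (pow_pos hq.pos a)]
    have hvA : v' ∈ A := by
      have h1 : A.subgroupOf (zpowers v') = ⊤ := by
        refine Components.eq_top_of_forall_sylow fun r hr hrd => ?_
        haveI := Fact.mk hr
        obtain ⟨R⟩ : Nonempty (Sylow r (zpowers v')) := inferInstance
        refine ⟨R, ?_⟩
        have hrq : r ≠ q := fun e => hm (e ▸ (by rwa [Nat.card_zpowers, ho] at hrd))
        show (R : Subgroup (zpowers v')) ≤ A.comap (zpowers v').subtype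
        rw [← map_le_iff_le_comap]
        refine le_trans (BGroups.le_pCore_of_le_fitting (R.2.map _) ?_)
          (le_iSup (fun r : {r : ℕ // r.Prime ∧ r ≠ q} => pCore (r : ℕ) G) ⟨r, hr, hrq⟩)
        exact (map_subtype_le _).trans (zpowers_le.2 (pow_mem hj _))
      exact subgroupOf_eq_top.1 h1 (mem_zpowers v')
    refine ⟨j + a, ?_⟩
    rw [← map_pow]
    refine (QuotientGroup.eq_one_iff _).2 (mem_center_iff.2 fun c => Subtype.ext ?_)
    have h2 : (((w ^ q ^ (j + a) : W)) : G) = v' := by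
      rw [SubmonoidClass.coe_pow, hv', hv, ← pow_mul, pow_add]
    show (c : G) * _ = _ * (c : G)
    rw [h2]
    exact ((mem_centralizer_iff.1 c.2.2) v' hvA).symm
  haveI : W.Normal := inferInstance
  exact Components.le_fittingSubgroup (N := W) inferInstance hxW

variable {k : ℕ}

theorem value_commute_pCore (h : Crit k G) {x : G} (hx : Value k x) {q j : ℕ} (hq : q.Prime)
    (ho : orderOf x = q ^ j) (r : ℕ) (hr : r.Prime) (hrq : r ≠ q) :
    ∀ v ∈ pCore r G, x * v = v * x := by
  intro v hv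
  haveI := Fact.mk hr
  obtain ⟨e, he⟩ := PCore.exists_card_pCore (p := r) (G := G)
  refine (value_centralizes h hx (Q := pCore r G)
    (fun a ha => (Components.pCore_normal' r).conj_mem a ha x) ?_ hv).symm
  rw [he, ho]
  exact Nat.Coprime.pow _ _ ((Nat.coprime_primes hr hq).2 hrq)

theorem exists_pow_mem_of_map {H : Type*} [Group H] {N : Subgroup G} {f : G →* H}
    {P : Subgroup H} {q : ℕ} (hP : IsPGroup q P) (hf : ∀ n ∈ N, f n ∈ P) :
    ∀ n ∈ N, ∃ j, n ^ q ^ j ∈ f.ker := by
  intro n hn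
  obtain ⟨j, hj⟩ := hP ⟨f n, hf n hn⟩
  exact ⟨j, by rw [MonoidHom.mem_ker, map_pow]; exact congrArg Subtype.val hj⟩

theorem quotient_fitting_isNilpotent [Group.IsSolvable G] (h : Crit k G) :
    Group.IsNilpotent (G ⧸ fittingSubgroup G) := by
  set F := fittingSubgroup G with hF
  set H := G ⧸ F
  set π := QuotientGroup.mk' F with hπ
  have hπs : Function.Surjective π := QuotientGroup.mk'_surjective F
  by_contra hnil
  set F2 := fittingSubgroup H with hF2
  have hF2top : F2 ≠ ⊤ := fun e => hnil (Components.fittingSubgroup_eq_top_iff.1 e)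
  have : ∃ p, p.Prime ∧ pCore p (H ⧸ F2) ≠ ⊥ := by
    by_contra hcon
    push Not at hcon
    have h0 : fittingSubgroup (H ⧸ F2) = ⊥ := by
      rw [Components.fittingSubgroup_eq_iSup_pCore]
      exact le_bot_iff.1 (iSup_le fun p => (hcon p (Nat.prime_of_mem_primeFactors p.2)).le)
    have h1 := Components.centralizer_fittingSubgroup_le (G := H ⧸ F2)
    rw [h0] at h1
    refine hF2top (eq_top_iff.2 fun a _ => ?_)
    refine (QuotientGroup.eq_one_iff a).1 (mem_bot.1 (h1 (mem_centralizer_iff.2 fun b hb => ?_)))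
    rw [SetLike.mem_coe, mem_bot] at hb
    rw [hb, one_mul, mul_one]
  obtain ⟨p, hp, hne⟩ := this
  haveI := Fact.mk hp
  obtain ⟨⟨c, hc⟩, hc1⟩ := Subgroup.ne_bot_iff_exists_ne_one.1 hne
  have hc1' : c ≠ 1 := fun e => hc1 (Subtype.ext e)
  set ρ := QuotientGroup.mk' F2 with hρ
  obtain ⟨i, hi⟩ := IsPGroup.iff_orderOf.1 (PCore.isPGroup_pCore (p := p) (G := H ⧸ F2)) ⟨c, hc⟩
  rw [Subgroup.orderOf_mk] at hi
  obtain ⟨a₀, l, ha₀, hla₀⟩ := PrimeParts.exists_primePow_lift ρ (QuotientGroup.mk'_surjective F2) hp hi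
  have ha₀F : a₀ ∉ F2 := fun e => hc1' (by rw [← ha₀]; exact (QuotientGroup.eq_one_iff _).2 e)
  have hex : ∃ r, r.Prime ∧ r ≠ p ∧ ∃ v ∈ pCore r H, a₀ * v ≠ v * a₀ := by
    by_contra hcon
    push Not at hcon
    haveI : ((pCore p (H ⧸ F2)).comap ρ).Normal := (Components.pCore_normal' p).comap ρ
    refine ha₀F (mem_fitting_of_centralizes hp (N := (pCore p (H ⧸ F2)).comap ρ) ?_
      (show ρ a₀ ∈ pCore p (H ⧸ F2) by rw [ha₀]; exact hc)
      fun r hr hrp v hv => hcon r hr hrp v hv)
    intro n hn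
    obtain ⟨j, hj⟩ := exists_pow_mem_of_map (N := (pCore p (H ⧸ F2)).comap ρ) (f := ρ)
      PCore.isPGroup_pCore (fun n hn => hn) n hn
    rw [hρ, QuotientGroup.ker_mk'] at hj
    exact ⟨j, hj⟩
  obtain ⟨r, hr, hrp, v, hv, hav⟩ := hex
  haveI := Fact.mk hr
  set M := (pCore r H).comap π with hM
  haveI : M.Normal := (Components.pCore_normal' r).comap π
  obtain ⟨R⟩ : Nonempty (Sylow r M) := inferInstance
  set R' := (R : Subgroup M).map M.subtype with hR'
  have hR'p : IsPGroup r R' := R.2.map _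
  have hnorm := Sylow.normalizer_sup_eq_top R
  -- the normalizer of `R'` covers `H`
  have hFle : M ≤ R' ⊔ F := by
    intro m hm
    have hφ : Function.Surjective ((π.comp M.subtype).rangeRestrict) :=
      MonoidHom.rangeRestrict_surjective _
    have hrange : IsPGroup r (π.comp M.subtype).range := by
      refine IsPGroup.to_le (PCore.isPGroup_pCore (p := r) (G := H)) ?_
      rintro _ ⟨y, rfl⟩
      exact y.2
    have htop : ((R.mapSurjective hφ : Sylow r _) : Subgroup (π.comp M.subtype).range) = ⊤ :=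
      (R.mapSurjective hφ).is_maximal' (Q := ⊤) ((PCore.isPGroup_top_iff).2 hrange) le_top |>.symm
    rw [Sylow.coe_mapSurjective] at htop
    have : (⟨π m, ⟨⟨m, hm⟩, rfl⟩⟩ : (π.comp M.subtype).range) ∈
        (R : Subgroup M).map (π.comp M.subtype).rangeRestrict := htop ▸ mem_top _
    obtain ⟨s, hs, hsm⟩ := this
    have h1 : π (s : G) = π m := congrArg Subtype.val hsm
    have h2 : (s : G)⁻¹ * m ∈ F := QuotientGroup.eq.1 h1
    have := mul_mem (mem_sup_left (T := F) (show (s : G) ∈ R' from ⟨s, hs, rfl⟩))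
      (mem_sup_right (S := R') h2)
    rwa [mul_inv_cancel_left] at this
  have hNs : Function.Surjective (π.comp (normalizer (R' : Set G)).subtype) := by
    intro y
    obtain ⟨g, rfl⟩ := hπs y
    have hg : g ∈ normalizer (R' : Set G) ⊔ F := by
      have : normalizer (R' : Set G) ⊔ M ≤ normalizer (R' : Set G) ⊔ F :=
        sup_le le_sup_left (hFle.trans (sup_le (le_normalizer.trans le_sup_left) le_sup_right))
      exact this (hnorm ▸ mem_top g)
    obtain ⟨n, hn, f, hf, rfl⟩ := mem_sup_of_normal_right.1 hg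
    refine ⟨⟨n, hn⟩, ?_⟩
    show π n = π (n * f)
    rw [map_mul, show π f = 1 from (QuotientGroup.eq_one_iff f).2 hf, mul_one]
  obtain ⟨⟨a, haN⟩, e, hae, hao⟩ := PrimeParts.exists_primePow_lift
    (π.comp (normalizer (R' : Set G)).subtype) hNs hp hla₀
  rw [Subgroup.orderOf_mk] at hao
  obtain ⟨w, hw, hwv⟩ : ∃ u ∈ R', π u = v := by
    obtain ⟨m, rfl⟩ := hπs v
    have hm : m ∈ R' ⊔ F := hFle (show π m ∈ pCore r H from hv)
    obtain ⟨u, hu, f, hf, rfl⟩ := mem_sup_of_normal_right.1 hm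
    exact ⟨u, hu, by rw [map_mul, show π f = 1 from (QuotientGroup.eq_one_iff f).2 hf, mul_one]⟩
  have hnR : ∀ q ∈ R', a * q * a⁻¹ ∈ R' := fun q hq => (mem_normalizer_iff.1 haN q).1 hq
  set x := it a w k with hx
  have hxR : x ∈ R' := it_mem hnR hw k
  obtain ⟨j, hj⟩ := IsPGroup.iff_orderOf.1 hR'p ⟨x, hxR⟩
  rw [Subgroup.orderOf_mk] at hj
  have hxM : x ∈ M := map_subtype_le _ hxR
  have hxF : x ∈ F := by
    refine mem_fitting_of_centralizes hr (N := M) ?_ hxM
      (value_commute_pCore h (value_it a w k) hr hj)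
    intro n hn
    obtain ⟨j, hj⟩ := exists_pow_mem_of_map (N := M) (f := π) PCore.isPGroup_pCore (fun n hn => hn) n hn
    rw [hπ, QuotientGroup.ker_mk'] at hj
    exact ⟨j, hj⟩
  have hπx : π x = 1 := (QuotientGroup.eq_one_iff x).2 hxF
  rw [hx, map_it, hwv, show π a = a₀ from hae] at hπx
  refine it_ne_one (Q := pCore r H) (fun q hq => (Components.pCore_normal' r).conj_mem q hq a₀) hv ?_
    (Ne.symm hav) k hπx
  obtain ⟨b, hb⟩ := PCore.exists_card_pCore (p := r) (G := H)
  rw [hb, hla₀]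
  exact Nat.Coprime.pow _ _ ((Nat.coprime_primes hr hp).2 hrp)

/-- The order condition in a solvable group puts the lower central term into the Fitting subgroup. -/
theorem lcs_le_fitting [Group.IsSolvable G] (h : Crit k G) :
    (⊤ : Subgroup G).lowerCentralSeries k ≤ fittingSubgroup G := by
  set F := fittingSubgroup G with hF
  set π := QuotientGroup.mk' F with hπ
  have hπs : Function.Surjective π := QuotientGroup.mk'_surjective F
  haveI hnil : Group.IsNilpotent (G ⧸ F) := quotient_fitting_isNilpotent h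
  have hbot : (⊤ : Subgroup (G ⧸ F)).lowerCentralSeries k = ⊥ := by
    obtain ⟨e⟩ := ((Group.isNilpotent_of_finite_tfae (G := G ⧸ F)).out 0 4).mp hnil
    rw [← Subgroup.map_top_of_surjective e.toMonoidHom e.surjective, ← map_lowerCentralSeries,
      map_eq_bot_iff_of_injective _ e.injective]
    refine eq_bot_iff.2 (fun f hf => mem_bot.2 ?_)
    funext p P
    have h1 : f p ∈ (⊤ : Subgroup (∀ P : Sylow (p : ℕ) (G ⧸ F), (P : Subgroup (G ⧸ F)))).lowerCentralSeries k :=
      Subgroup.top_lowerCentralSeries_pi_le _ hf p (Set.mem_univ p)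
    have h2 : f p P ∈ (⊤ : Subgroup (P : Subgroup (G ⧸ F))).lowerCentralSeries k :=
      Subgroup.top_lowerCentralSeries_pi_le _ h1 P (Set.mem_univ P)
    suffices hP : (⊤ : Subgroup (P : Subgroup (G ⧸ F))).lowerCentralSeries k = ⊥ by
      rw [hP, mem_bot] at h2
      exact h2
    haveI := Fact.mk (Nat.prime_of_mem_primeFactors p.2)
    haveI : (P : Subgroup (G ⧸ F)).Normal :=
      (((Group.isNilpotent_of_finite_tfae (G := G ⧸ F)).out 0 3 rfl rfl).mp hnil) _ inferInstance P
    set N := (P : Subgroup (G ⧸ F)).comap π with hN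
    obtain ⟨S⟩ : Nonempty (Sylow (p : ℕ) N) := inferInstance
    let φ : N →* (P : Subgroup (G ⧸ F)) := π.subgroupComap _
    have hφ : Function.Surjective φ := by
      rintro ⟨y, hy⟩
      obtain ⟨g, rfl⟩ := hπs y
      exact ⟨⟨g, hy⟩, rfl⟩
    have htop : ((S.mapSurjective hφ : Sylow (p : ℕ) _) : Subgroup (P : Subgroup (G ⧸ F))) = ⊤ :=
      (S.mapSurjective hφ).is_maximal' (Q := ⊤) ((PCore.isPGroup_top_iff).2 P.2) le_top |>.symm
    rw [Sylow.coe_mapSurjective] at htop
    let ψ : (S : Subgroup N) →* (P : Subgroup (G ⧸ F)) := φ.comp (S : Subgroup N).subtype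
    have hψ : Function.Surjective ψ := by
      intro y
      obtain ⟨s, hs, rfl⟩ : y ∈ (S : Subgroup N).map φ := htop ▸ mem_top y
      exact ⟨⟨s, hs⟩, rfl⟩
    rw [← Subgroup.map_top_of_surjective ψ hψ, ← map_lowerCentralSeries,
      Subgroup.map_eq_bot_iff]
    refine lcs_le_of_values k ψ.ker inferInstance fun x hx => ?_
    obtain ⟨j, hj⟩ := IsPGroup.iff_orderOf.1 S.2 x
    let ι : (S : Subgroup N) →* G := N.subtype.comp (S : Subgroup N).subtype
    have hι : Function.Injective ι :=
      N.subtype_injective.comp (S : Subgroup N).subtype_injective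
    rw [MonoidHom.mem_ker]
    refine Subtype.ext ?_
    show π (ι x) = 1
    refine (QuotientGroup.eq_one_iff _).2 ?_
    refine mem_fitting_of_centralizes (Nat.prime_of_mem_primeFactors p.2) (N := N) ?_ (x := ι x)
      (x.1).2 (value_commute_pCore h (hx.map ι) (Nat.prime_of_mem_primeFactors p.2)
        (by rw [orderOf_injective ι hι, hj]))
    intro n hn
    obtain ⟨j, hj⟩ := exists_pow_mem_of_map (N := N) (f := π) P.2 (fun n hn => hn) n hn
    rw [hπ, QuotientGroup.ker_mk'] at hj
    exact ⟨j, hj⟩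
  rw [← Subgroup.map_top_of_surjective π hπs, ← map_lowerCentralSeries, Subgroup.map_eq_bot_iff,
    hπ, QuotientGroup.ker_mk'] at hbot
  exact hbot

theorem isNilpotent_lcs_of_solvable [Group.IsSolvable G] (h : Crit k G) :
    Group.IsNilpotent ((⊤ : Subgroup G).lowerCentralSeries k) :=
  (Group.isNilpotent_congr (subgroupOfEquivOfLe (lcs_le_fitting h))).mp inferInstance

end Cfsg.Agent.CommValues
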